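import Groth.Agent.H3Cyc.HomPull
import Groth.Agent.H10Coh.SheafHom.EndInvertible
import Groth.Agent.H10Inj.SheafExt.HomFunctor
import Groth.Agent.H23KS.DualSum
import Groth.Agent.H17.FLI.HodgeSymm
import Groth.Agent.H17.FLI.Adjunction
import Groth.Agent.H17.PullSect
import Groth.Agent.H11Ample.Ample
import Groth.Agent.H11Tilde.StalkGen
import Groth.Agent.H22Alg.ExtPowSum

/-!
# Endomorphisms of sums of copies of an invertible module
-/

set_option autoImplicit false
set_option linter.style.haveILetI false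
set_option maxHeartbeats 1000000
universe u

open CategoryTheory CategoryTheory.Limits AlgebraicGeometry Opposite TopologicalSpace
open Groth.Agent

noncomputable section

namespace Groth.Agent.H02CA.TrivRat

attribute [local instance] Abelian.hasFiniteBiproducts

variable {X Y : Scheme.{u}}

open H10Inj.SheafExt in
theorem nonempty_homSh_congr {A B : X.Modules} (e : A ≅ B) :
    Nonempty (RefHull.homSh A A ≅ RefHull.homSh B B) :=
  ⟨(((homAdj A).ofNatIsoLeft ((DCoh.tensorBi (X := X)).mapIso e)).rightAdjointUniq (homAdj B)).app A ≪≫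
    (homFunctor B).mapIso e⟩

/-- The endomorphisms of a free module are free. -/
theorem nonempty_homSh_free (r : ℕ) :
    Nonempty (RefHull.homSh (FlatMod.freeMod X r) (FlatMod.freeMod X r) ≅ FlatMod.freeMod X (r * r)) := by
  have hO := H11Proj.isInvertible_structureModule (X := X)
  obtain ⟨e1⟩ : Nonempty (RefHull.dual (Coh.structureModule X) ≅ Coh.structureModule X) :=
    (H10Coh.SheafHom.nonempty_endIso hO).map Iso.symm
  let W := FlatMod.freeMod X r
  let T := H10Inj.SheafExt.homFunctor W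
  let f : Fin r → X.Modules := fun _ => Coh.structureModule X
  let e2 : T.obj (∐ f) ≅ ∐ fun i => T.obj (f i) := PreservesCoproduct.iso T f
  let e3 : ∀ i, T.obj (f i) ≅ W := fun i => H23KS.dualSigma f ≪≫ Sigma.mapIso fun _ => e1
  exact ⟨e2 ≪≫ Sigma.mapIso e3 ≪≫ sigmaSigmaIso (fun _ : Fin r => Fin r) (fun _ _ => Coh.structureModule X) ≪≫
    Sigma.whiskerEquiv (g := fun _ : Fin (r * r) => Coh.structureModule X)
      ((Equiv.sigmaEquivProd (Fin r) (Fin r)).trans finProdFinEquiv) (fun _ => Iso.refl _)⟩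

/-- The endomorphisms of a sum of copies of an invertible module are free. -/
theorem nonempty_homSh_pow {L : X.Modules} (hL : PicF.IsInvertible L) (r : ℕ) :
    Nonempty (RefHull.homSh (∐ fun _ : Fin r => L) (∐ fun _ : Fin r => L) ≅ FlatMod.freeMod X (r * r)) := by
  let W := FlatMod.freeMod X r
  let T := (DCoh.tensorBi (X := X)).obj L
  haveI : PreservesColimitsOfShape (Discrete (Fin r)) T :=
    haveI := preservesColimitsOfSize_shrink.{0, u, 0, u} T
    inferInstance
  let f : Fin r → X.Modules := fun _ => Coh.structureModule X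
  let e : CohB1.tensorMod L W ≅ ∐ fun _ : Fin r => L :=
    PreservesCoproduct.iso T f ≪≫ Sigma.mapIso fun _ => SecTwist.unitorR L
  obtain ⟨a⟩ := nonempty_homSh_congr e
  obtain ⟨b⟩ := H17.FLI.nonempty_homSh_homSh_iso L W (CohB1.tensorMod L W)
  obtain ⟨c⟩ := H17.FLI.nonempty_homSh_tensor_iso hL W
  obtain ⟨d⟩ := nonempty_homSh_free (X := X) r
  exact ⟨a.symm ≪≫ b.symm ≪≫ (H10Inj.SheafExt.homFunctor W).mapIso c ≪≫ d⟩

/-- The pullback of the endomorphism sheaf of a bundle which becomes a sum of copies of a line bundle. -/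
theorem nonempty_pullback_end (q : Y ⟶ X) {E : X.Modules} (hE : FlatMod.IsFinLocFree E) {L : Y.Modules}
    (hL : PicF.IsInvertible L) (r : ℕ) (e : (Scheme.Modules.pullback q).obj E ≅ ∐ fun _ : Fin r => L) :
    Nonempty ((Scheme.Modules.pullback q).obj (RefHull.homSh E E) ≅ FlatMod.freeMod Y (r * r)) := by
  haveI : E.IsQuasicoherent := H8Props.FinLocFree.isQCoh_of_isFinLocFree E hE
  obtain ⟨c, -⟩ := H3Cyc.HomPull.exists_pullIso (F := E) (G := E) q hE
  obtain ⟨a⟩ := nonempty_homSh_congr e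
  obtain ⟨d⟩ := nonempty_homSh_pow hL r
  exact ⟨c ≪≫ a ≪≫ d⟩

theorem rank_end {r : ℕ} {E : X.Modules} (hE : FlatMod.IsFinLocFreeOfRank r E) :
    FlatMod.IsFinLocFreeOfRank (r * r) (RefHull.homSh E E) := fun x => by
  have hEf : FlatMod.IsFinLocFree E := fun y => let ⟨U, hU⟩ := hE y; ⟨U, r, hU⟩
  obtain ⟨U, hxU, ⟨e⟩⟩ := hE x
  let t := Scheme.Modules.restrictFunctorIsoPullback U.ι
  obtain ⟨d⟩ := nonempty_pullback_end U.ι hEf (H11Proj.isInvertible_structureModule (X := U.toScheme)) r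
    ((t.app E).symm ≪≫ e)
  exact ⟨U, hxU, ⟨t.app _ ≪≫ d⟩⟩

/-- Restriction of sections to a point is bijective on finite free modules when it is on functions. -/
theorem bijective_pullSect_free (q : Y ⟶ X) (hq : Function.Bijective q.appTop) (N : ℕ) :
    Function.Bijective (OmegaSh.pullSect q (FlatMod.freeMod X N) ⊤) := by
  have hO : Function.Bijective (OmegaSh.pullSect q (Coh.structureModule X) ⊤) := by
    have h1 := ((H11Ample.isGen_one (X := X) ⊤).bijective (le_refl (⊤ : X.Opens)))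
    have h2 := ((H11Ample.isGen_one (X := X) ⊤).pullSect q).bijective (le_refl (q ⁻¹ᵁ (⊤ : X.Opens)))
    simp only [H10Coh.mres_self] at h1 h2
    refine ⟨fun a b hab => ?_, fun w => ?_⟩
    · obtain ⟨a, rfl⟩ := h1.2 a
      obtain ⟨b, rfl⟩ := h1.2 b
      simp only [OmegaSh.pullSect_smul] at hab
      rw [hq.1 (h2.1 hab)]
    · obtain ⟨c, rfl⟩ := h2.2 w
      obtain ⟨a, rfl⟩ := hq.2 c
      exact ⟨_, OmegaSh.pullSect_smul _ _ _ a _⟩
  let A := Scheme.Modules.pullback q
  let f : Fin N → X.Modules := fun _ => Coh.structureModule X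
  haveI : A.Additive := inferInstance
  have key : Function.Bijective (OmegaSh.pullSect q (⨁ f) ⊤) := by
    have ht : ∀ (z : Γ(⨁ f, ⊤)), z = ∑ l, (biproduct.ι f l).app ⊤ ((biproduct.π f l).app ⊤ z) := fun z => by
      conv_lhs => rw [show z = (𝟙 (⨁ f) : ⨁ f ⟶ ⨁ f).app ⊤ z from rfl, ← biproduct.total,
        H22Alg.ExtPowSum.app_sum]
      rfl
    refine ⟨(injective_iff_map_eq_zero _).2 fun z hz => ?_, fun w => ?_⟩
    · rw [ht z]
      refine Finset.sum_eq_zero fun l _ => ?_
      rw [show (biproduct.π f l).app ⊤ z = 0 from hO.1 (by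
        rw [H17.PullSect.pullSect_natural, hz, map_zero, map_zero]), map_zero]
    · choose c hc using fun l => hO.2 ((A.map (biproduct.π f l)).app (q ⁻¹ᵁ ⊤) w)
      refine ⟨∑ l, (biproduct.ι f l).app ⊤ (c l), ?_⟩
      rw [map_sum]
      conv_rhs => rw [show w = (𝟙 (A.obj (⨁ f)) : A.obj (⨁ f) ⟶ A.obj (⨁ f)).app (q ⁻¹ᵁ ⊤) w from rfl, ← A.map_id, ← biproduct.total,
        A.map_sum, H22Alg.ExtPowSum.app_sum]
      refine Finset.sum_congr rfl fun l _ => ?_
      rw [H17.PullSect.pullSect_natural, hc, A.map_comp]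
      rfl
  let i := biproduct.isoCoproduct f
  constructor
  · intro a b hab
    haveI := Scheme.Modules.Hom.isIso_iff_isIso_app.mp (inferInstance : IsIso i.inv) (⊤ : X.Opens)
    refine (ConcreteCategory.bijective_of_isIso (i.inv.app ⊤)).1 (key.1 ?_)
    rw [H17.PullSect.pullSect_natural, H17.PullSect.pullSect_natural, hab]
  · intro w
    obtain ⟨z, hz⟩ := key.2 ((A.map i.inv).app (q ⁻¹ᵁ ⊤) w)
    refine ⟨i.hom.app ⊤ z, ?_⟩
    rw [H17.PullSect.pullSect_natural, hz]
    exact congr($(congrArg (fun k => Scheme.Modules.Hom.app k (q ⁻¹ᵁ ⊤)) (A.mapIso i).inv_hom_id) w)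

end Groth.Agent.H02CA.TrivRat
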