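import Groth.Agent.H29RR.P1Split
import Groth.Agent.H22Alg.ExtPowSum
import Groth.Agent.H25Euler.Additive
import Groth.Prelude.Def_ModFun2

/-!
# Semistable bundles on the line
-/

set_option autoImplicit false
set_option linter.style.haveILetI false
universe u

open CategoryTheory CategoryTheory.Limits AlgebraicGeometry
open Groth.Agent Groth.Agent.H29RR.PnPic

namespace Groth.Agent.H02CA.TrivRat

attribute [local instance 10000] H10Coh.hasSheafifyAb H10Coh.hasWeakSheafifyAb H10Coh.hasExtAb H10Coh.enoughInjAb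
attribute [local instance] overSpec

variable {k : Type u} [Field k]

theorem euler_sum : ∀ {r : ℕ} (d : Fin r → ℤ),
    Curv2.euler k (CohB1.ProjSpace 1 k) (∐ fun i : Fin r => Twist.twistProjSpace 1 k (d i)) =
      ∑ i, Curv2.euler k (CohB1.ProjSpace 1 k) (Twist.twistProjSpace 1 k (d i)) := by
  haveI : IsProper (CohB1.ProjSpace 1 k ↘ Spec (CommRingCat.of k)) := H27Weil.isProper_toSpec 1 k
  haveI := H29RR.isNoetherian_of_proper (k := k) (X := CohB1.ProjSpace 1 k)
  have hT := H10Coh.Stab.isTwistFamily_projSpace 1 k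
  have hc : ∀ {r : ℕ} (d : Fin r → ℤ), Coh.IsCoh (∐ fun i : Fin r => Twist.twistProjSpace 1 k (d i)) := fun {r} d =>
    H10Coh.isCoh_of_iso (biproduct.isoCoproduct fun i : Fin r => Twist.twistProjSpace 1 k (d i))
      (H16Derived.KFlat.Stalk.isCoh_of_isFinLocFree (H22Alg.ExtPowSum.finLocFree_biproduct _
        fun j => H28Pinch.isFinLocFree_of_isInvertible (hT.inv (d j))).1)
  intro r
  induction r with
  | zero =>
    intro d
    have hz : IsZero (∐ fun i : Fin 0 => Twist.twistProjSpace 1 k (d i)) :=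
      (IsZero.iff_id_eq_zero _).2 (Sigma.hom_ext _ _ fun b => b.elim0)
    have hS : (ShortComplex.mk (0 : (∐ fun i : Fin 0 => Twist.twistProjSpace 1 k (d i)) ⟶
        ∐ fun i : Fin 0 => Twist.twistProjSpace 1 k (d i)) (0 : _ ⟶ ∐ fun i : Fin 0 => Twist.twistProjSpace 1 k (d i))
        zero_comp).ShortExact :=
      { exact := ShortComplex.exact_of_isZero_X₂ _ hz
        mono_f := ⟨fun _ _ _ => hz.eq_of_tgt _ _⟩
        epi_g := ⟨fun _ _ _ => hz.eq_of_src _ _⟩ }
    have := H25Euler.euler_add (k := k) hS (hc d) (hc d) (hc d)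
    simp only [Finset.univ_eq_empty, Finset.sum_empty]
    dsimp only at this
    omega
  | succ r ih =>
    intro d
    let d' : Fin r → ℤ := fun i => d i.succ
    let A := Twist.twistProjSpace 1 k (d 0)
    let B := ∐ fun i : Fin r => Twist.twistProjSpace 1 k (d' i)
    let e := consIso fun i => Twist.twistProjSpace 1 k (d i)
    have hS : (ShortComplex.mk (biprod.inl : A ⟶ A ⊞ B) biprod.snd biprod.inl_snd).ShortExact :=
      (ShortComplex.Splitting.ofHasBinaryBiproduct A B).shortExact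
    have := H25Euler.euler_add (k := k) hS
      (H16Derived.KFlat.Stalk.isCoh_of_isFinLocFree (H28Pinch.isFinLocFree_of_isInvertible (hT.inv (d 0))))
      (H10Coh.isCoh_of_iso e (hc d)) (hc d')
    rw [H25Euler.euler_congr e, Fin.sum_univ_succ, ← ih d']
    exact this

/-- A semistable bundle on the line is a sum of copies of one twisting sheaf. -/
theorem exists_pow_of_semistable {r : ℕ} (hr : 0 < r) (E : (CohB1.ProjSpace 1 k).Modules)
    (hE : FlatMod.IsFinLocFreeOfRank r E) (hss : ModFun.IsSlopeSemistable k (CohB1.ProjSpace 1 k) E r) :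
    ∃ a : ℤ, Nonempty (E ≅ ∐ fun _ : Fin r => Twist.twistProjSpace 1 k a) := by
  obtain ⟨d, hd, ⟨e⟩⟩ := exists_splitting r E hE
  obtain ⟨c, hc, hdeg⟩ := deg_twist_line (k := k)
  haveI : IsProper (CohB1.ProjSpace 1 k ↘ Spec (CommRingCat.of k)) := H27Weil.isProper_toSpec 1 k
  have hT := H10Coh.Stab.isTwistFamily_projSpace 1 k
  let i0 : Fin r := ⟨0, hr⟩
  have hmono : Mono (Sigma.ι (fun i => Twist.twistProjSpace 1 k (d i)) i0 ≫ e.inv) := inferInstance
  have h1 := hss _ 1 (Sigma.ι (fun i => Twist.twistProjSpace 1 k (d i)) i0 ≫ e.inv) hmono one_pos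
    (H29RR.rank_one_of_isInvertible (hT.inv (d i0)))
  have hE' : Curv2.deg k (CohB1.ProjSpace 1 k) E r = (∑ i, d i) * c := by
    rw [Finset.sum_mul, Finset.sum_congr rfl fun i _ => (hdeg (d i)).symm]
    simp only [Curv2.deg, H25Euler.euler_congr e, euler_sum, Finset.sum_sub_distrib, Finset.sum_const,
      Finset.card_univ, Fintype.card_fin, Nat.cast_one, one_mul, nsmul_eq_mul]
  rw [hdeg, hE', Nat.cast_one, mul_one] at h1
  have h2 : ∀ i, d i = d i0 := by
    intro i
    have hle : ∀ j, d j ≤ d i0 := fun j => hd (Nat.zero_le _)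
    by_contra hne
    have hlt : ∑ j, d j < ∑ _j : Fin r, d i0 :=
      Finset.sum_lt_sum (fun j _ => hle j) ⟨i, Finset.mem_univ i, lt_of_le_of_ne (hle i) hne⟩
    rw [Finset.sum_const, Finset.card_univ, Fintype.card_fin, nsmul_eq_mul] at hlt
    nlinarith
  exact ⟨d i0, ⟨e ≪≫ Sigma.mapIso fun i => eqToIso (congrArg (fun a => Twist.twistProjSpace 1 k a) (h2 i))⟩⟩

end Groth.Agent.H02CA.TrivRat
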