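import Groth.Agent.H02CA.TrivRat.EndFree
import Groth.Agent.H23SB.Corner
import Groth.Agent.H23KS.Isotypical
import Groth.Agent.H29Ref.Ops
import Groth.Agent.H02CA.BlowPts.GeomS
import Mathlib.AlgebraicGeometry.AlgClosed.Basic

/-!
# A bundle with free endomorphism sheaf is a sum of copies of a line bundle
-/

set_option autoImplicit false
set_option linter.style.haveILetI false
set_option maxHeartbeats 1000000
universe u

open CategoryTheory CategoryTheory.Limits AlgebraicGeometry Opposite TopologicalSpace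
open Groth.Agent

noncomputable section

namespace Groth.Agent.H02CA.TrivRat

attribute [local instance] Abelian.hasFiniteBiproducts

variable {X Y : Scheme.{u}}

/-- When the endomorphism sheaf is free, all endomorphisms of the pullback to a point lift uniquely. -/
theorem bijective_map_end (q : Y ⟶ X) (hq : Function.Bijective q.appTop) {E : X.Modules}
    (hE : FlatMod.IsFinLocFree E) {N : ℕ} (a : RefHull.homSh E E ≅ FlatMod.freeMod X N) :
    Function.Bijective fun φ : E ⟶ E => (Scheme.Modules.pullback q).map φ := by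
  haveI : E.IsQuasicoherent := H8Props.FinLocFree.isQCoh_of_isFinLocFree E hE
  obtain ⟨c, hc⟩ := H3Cyc.HomPull.exists_pullIso (F := E) (G := E) q hE
  let A := Scheme.Modules.pullback q
  have hps : Function.Bijective (OmegaSh.pullSect q (RefHull.homSh E E) ⊤) := by
    have h := bijective_pullSect_free q hq N
    haveI := Scheme.Modules.Hom.isIso_iff_isIso_app.mp (inferInstance : IsIso a.hom) (⊤ : X.Opens)
    haveI := Scheme.Modules.Hom.isIso_iff_isIso_app.mp (inferInstance : IsIso (A.mapIso a).hom) (q ⁻¹ᵁ (⊤ : X.Opens))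
    have e : ∀ z, ((A.mapIso a).hom.app (q ⁻¹ᵁ ⊤)) (OmegaSh.pullSect q (RefHull.homSh E E) ⊤ z) =
        OmegaSh.pullSect q (FlatMod.freeMod X N) ⊤ (a.hom.app ⊤ z) :=
      fun z => (H17.PullSect.pullSect_natural q a.hom ⊤ z).symm
    refine ⟨fun z z' hz => (ConcreteCategory.bijective_of_isIso (a.hom.app ⊤)).1 (h.1 ?_), fun w => ?_⟩
    · rw [← e, ← e, hz]
    · obtain ⟨v, hv⟩ := h.2 ((A.mapIso a).hom.app (q ⁻¹ᵁ ⊤) w)
      obtain ⟨z, rfl⟩ := (ConcreteCategory.bijective_of_isIso (a.hom.app ⊤)).2 v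
      exact ⟨z, (ConcreteCategory.bijective_of_isIso ((A.mapIso a).hom.app (q ⁻¹ᵁ ⊤))).1 ((e z).trans hv)⟩
  haveI := Scheme.Modules.Hom.isIso_iff_isIso_app.mp (inferInstance : IsIso c.hom) (⊤ : Y.Opens)
  refine ⟨fun φ φ' h => H10Coh.SheafHom.ofHom_injective (hps.1 ?_), fun ψ => ?_⟩
  · refine (ConcreteCategory.bijective_of_isIso (c.hom.app ⊤)).1 ?_
    exact (hc φ).trans ((congrArg (fun t => RefHull.ofHom t ⊤) h).trans (hc φ').symm)
  · obtain ⟨s, hs⟩ := (ConcreteCategory.bijective_of_isIso (c.hom.app ⊤)).2 (RefHull.ofHom ψ ⊤)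
    obtain ⟨z, rfl⟩ := hps.2 s
    obtain ⟨φ, rfl⟩ := H10Coh.SheafHom.ofHom_surjective z
    exact ⟨φ, H10Coh.SheafHom.ofHom_injective ((hc φ).symm.trans hs)⟩

/-- Matrix units descend. -/
theorem exists_pow_of_bijective {A : X.Modules ⥤ Y.Modules} [A.Additive] {E : X.Modules} {r : ℕ} (hr : 0 < r)
    (hb : Function.Bijective fun φ : E ⟶ E => A.map φ) {P : Y.Modules} (e : A.obj E ≅ ∐ fun _ : Fin r => P) :
    ∃ (L : X.Modules) (i : L ⟶ E) (p : E ⟶ L), i ≫ p = 𝟙 L ∧ Nonempty (E ≅ ∐ fun _ : Fin r => L) := by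
  classical
  let f : Fin r → Y.Modules := fun _ => P
  let e' : A.obj E ≅ ⨁ f := e ≪≫ (biproduct.isoCoproduct f).symm
  choose ε hε₀ using fun i j : Fin r => hb.2 (e'.hom ≫ biproduct.π f i ≫ biproduct.ι f j ≫ e'.inv)
  have hε : ∀ i j, A.map (ε i j) = e'.hom ≫ biproduct.π f i ≫ biproduct.ι f j ≫ e'.inv := hε₀
  have hmul : ∀ i j j' l, ε i j ≫ ε j' l = if j = j' then ε i l else 0 := fun i j j' l => by
    refine hb.1 ?_
    dsimp only
    rw [A.map_comp, hε, hε]
    simp only [Category.assoc, Iso.inv_hom_id_assoc]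
    split_ifs with h
    · subst h
      rw [hε, biproduct.ι_π_self_assoc]
    · rw [biproduct.ι_π_ne_assoc _ h, zero_comp, comp_zero, comp_zero, A.map_zero]
  have hsum : ∑ i, ε i i = 𝟙 E := hb.1 (by
    dsimp only
    rw [A.map_sum, A.map_id]
    simp only [hε]
    rw [← Preadditive.comp_sum]
    simp only [← Category.assoc]
    rw [← Preadditive.sum_comp]
    rw [show (∑ i, biproduct.π f i ≫ biproduct.ι f i) = 𝟙 _ from biproduct.total, Category.id_comp, e'.hom_inv_id])
  let o : Fin r := ⟨0, hr⟩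
  let L := kernel (𝟙 E - ε o o)
  let inc : L ⟶ E := kernel.ι _
  have hinc : inc ≫ ε o o = inc := by
    have := kernel.condition (𝟙 E - ε o o)
    rw [Preadditive.comp_sub, Category.comp_id, sub_eq_zero] at this
    exact this.symm
  let ret : E ⟶ L := kernel.lift _ (ε o o) (by
    rw [Preadditive.comp_sub, Category.comp_id, hmul, if_pos rfl, sub_self])
  have hret : ret ≫ inc = ε o o := kernel.lift_ι _ _ _
  have hir : inc ≫ ret = 𝟙 L := by
    rw [← cancel_mono inc, Category.assoc, hret, hinc, Category.id_comp]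
  let g : Fin r → X.Modules := fun _ => L
  let a : E ⟶ ⨁ g := biproduct.lift fun i => ε i o ≫ ret
  let b : ⨁ g ⟶ E := biproduct.desc fun i => inc ≫ ε o i
  refine ⟨L, inc, ret, hir, ⟨({ hom := a, inv := b, hom_inv_id := ?_, inv_hom_id := ?_ } : E ≅ ⨁ g) ≪≫
    biproduct.isoCoproduct g⟩⟩
  · rw [biproduct.lift_desc, ← hsum]
    refine Finset.sum_congr rfl fun i _ => ?_
    rw [Category.assoc, reassoc_of% hret, hmul, if_pos rfl, hmul, if_pos rfl]
  · refine biproduct.hom_ext' _ _ fun i => biproduct.hom_ext _ _ fun j => ?_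
    rw [biproduct.ι_desc_assoc, Category.comp_id, Category.assoc, Category.assoc, biproduct.lift_π]
    by_cases h : i = j
    · subst h
      rw [biproduct.ι_π_self, reassoc_of% (hmul o i i o), if_pos trivial, reassoc_of% hinc, hir]
    · rw [biproduct.ι_π_ne _ h, reassoc_of% (hmul o i j o), if_neg h, zero_comp, comp_zero]

theorem isInvertible_of_pow [IsLocallyNoetherian X] {r : ℕ} (hr : 0 < r) {E L : X.Modules}
    (hE : FlatMod.IsFinLocFreeOfRank r E) (i : L ⟶ E) (p : E ⟶ L) (h : i ≫ p = 𝟙 L)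
    (g : E ≅ ∐ fun _ : Fin r => L) : PicF.IsInvertible L := by
  intro y
  have hEf : FlatMod.IsFinLocFree E := fun y => let ⟨U, hU⟩ := hE y; ⟨U, r, hU⟩
  have hL : FlatMod.IsFinLocFree L := H23KS.isFinLocFree_of_retract hEf i p h
  obtain ⟨U, m, hyU, he⟩ := hL y
  obtain ⟨B⟩ := H8Props.FunDescent.stalkFree_of_isFreeOfRankNear _
    (H8Props.FinLocFree.isQCoh_of_isFinLocFree _ hL) ⟨U, hyU, he⟩
  obtain ⟨V, hyV, hV⟩ := hE y
  obtain ⟨B'⟩ := H8Props.FunDescent.stalkFree_of_isFreeOfRankNear _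
    (H8Props.FinLocFree.isQCoh_of_isFinLocFree _ hEf) ⟨V, hyV, hV⟩
  let B'' := (Pi.basis fun _ : Fin r => B).map (H23SB.stalkPiEquiv L g y).symm
  have hn := Module.finrank_eq_card_basis B'
  rw [Module.finrank_eq_card_basis B'', Fintype.card_sigma, Finset.sum_const, Fintype.card_fin,
    Finset.card_univ, Fintype.card_fin, smul_eq_mul] at hn
  have hm1 : m = 1 := Nat.eq_of_mul_eq_mul_left hr (hn.trans (mul_one r).symm)
  subst hm1
  exact H29Ref.exists_iso_of_isFreeOfRankNear_one L y ⟨U, hyU, he⟩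

/-- Over the one-point scheme of a field the fibre of a bundle is free. -/
theorem nonempty_fibre_free [Unique Y] (q : Y ⟶ X) {r : ℕ} {E : X.Modules} (hE : FlatMod.IsFinLocFreeOfRank r E) :
    Nonempty ((Scheme.Modules.pullback q).obj E ≅ FlatMod.freeMod Y r) := by
  obtain ⟨U, hU, ⟨e⟩⟩ := hE (q default)
  have hr : Set.range q ⊆ Set.range U.ι := by
    rintro _ ⟨y, rfl⟩
    rw [Subsingleton.elim y default]
    exact ⟨⟨_, hU⟩, rfl⟩
  let q' := IsOpenImmersion.lift U.ι q hr
  haveI : PreservesColimitsOfSize.{0, 0} (Scheme.Modules.pullback q') :=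
    (Scheme.Modules.pullbackPushforwardAdjunction q').leftAdjoint_preservesColimits
  let f : Fin r → (U : Scheme.{u}).Modules := fun _ => Coh.structureModule _
  exact ⟨(Scheme.Modules.pullbackCongr (IsOpenImmersion.lift_fac U.ι q hr)).symm.app E ≪≫
    ((Scheme.Modules.pullbackComp q' U.ι).app E).symm ≪≫
    (Scheme.Modules.pullback q').mapIso (((Scheme.Modules.restrictFunctorIsoPullback U.ι).app E).symm ≪≫ e) ≪≫
    PreservesCoproduct.iso (Scheme.Modules.pullback q') f ≪≫
    Sigma.mapIso fun _ => H16Derived.KFlat.Stalk.structurePullbackIso q'⟩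

/-- A bundle with free endomorphism sheaf on a proper integral scheme is a sum of copies of a line bundle. -/
theorem exists_pow_of_end_free {k : Type u} [Field k] [IsAlgClosed k] [IsIntegral X] (f : X ⟶ Spec (CommRingCat.of k))
    [IsProper f] {r : ℕ} (hr : 0 < r) {E : X.Modules} (hE : FlatMod.IsFinLocFreeOfRank r E) {N : ℕ}
    (a : RefHull.homSh E E ≅ FlatMod.freeMod X N) :
    ∃ L : X.Modules, PicF.IsInvertible L ∧ Nonempty (E ≅ ∐ fun _ : Fin r => L) := by
  haveI : CompactSpace X := QuasiCompact.compactSpace_of_compactSpace f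
  haveI : IsLocallyNoetherian X := LocallyOfFiniteType.isLocallyNoetherian f
  obtain ⟨x, -, hx⟩ := IsClosed.exists_closed_singleton (S := (Set.univ : Set X)) isClosed_univ Set.univ_nonempty
  let q := pointOfClosedPoint f x hx
  have hq : Function.Bijective q.appTop := by
    have hf := BlowPts.bijective_const f
    have h1 : Function.Bijective f.appTop := by
      have : ⇑((Scheme.ΓSpecIso (CommRingCat.of k)).inv ≫ f.appTop) =
        ⇑f.appTop ∘ ⇑(Scheme.ΓSpecIso (CommRingCat.of k)).inv := rfl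
      rw [this] at hf
      exact (Function.Bijective.of_comp_iff _ (ConcreteCategory.bijective_of_isIso _)).1 hf
    have h2 : ⇑q.appTop ∘ ⇑f.appTop = id := funext fun z => by
      have := congr($(congrArg Scheme.Hom.appTop (pointOfClosedPoint_comp f x hx)) z)
      exact this
    refine (Function.Bijective.of_comp_iff _ h1).1 ?_
    rw [h2]
    exact Function.bijective_id
  haveI : Unique (Spec (CommRingCat.of k)) := inferInstanceAs (Unique (PrimeSpectrum k))
  have hEf : FlatMod.IsFinLocFree E := fun y => let ⟨U, hU⟩ := hE y; ⟨U, r, hU⟩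
  obtain ⟨e⟩ := nonempty_fibre_free q hE
  obtain ⟨L, i, p, h, ⟨g⟩⟩ := exists_pow_of_bijective hr (bijective_map_end q hq hEf a) e
  exact ⟨L, isInvertible_of_pow hr hE i p h g, ⟨g⟩⟩

end Groth.Agent.H02CA.TrivRat
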